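import Mathlib

/-!
# Half-exact functors killed by an ideal and powers of the ideal (helper16)

Let `A` be a Noetherian ring, `I` an ideal and `T` a functor on `A`-modules which is half exact
(middle exact on short exact sequences), sends zero maps to zero maps, and sends multiplication
by any `a ∈ I` to zero.  Then for every finite `A`-module `M` there is `n` — independent of `T` —
such that `T (I ^ j M → I ^ k M) = 0` whenever `n + k ≤ j`.

The proof is an elementary dévissage (Artin–Rees, `a`-torsion / `a`-regular splitting, induction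
on the number of generators of `I`).
-/

set_option autoImplicit false
universe u
open CategoryTheory

namespace Groth.Agent.Lib.Helper16

namespace HalfExact

variable {A : Type u} [CommRing A]

/-- The hypotheses on the functor `T`. -/
structure Hyp (I : Ideal A) (T : ModuleCat.{u} A ⥤ ModuleCat.{u} A) : Prop where
  zero : ∀ X Y : ModuleCat.{u} A, T.map (0 : X ⟶ Y) = 0
  half : ∀ {X₁ X₂ X₃ : Type u} [AddCommGroup X₁] [Module A X₁] [AddCommGroup X₂] [Module A X₂]
      [AddCommGroup X₃] [Module A X₃] (f : X₁ →ₗ[A] X₂) (g : X₂ →ₗ[A] X₃),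
      Function.Injective f → Function.Surjective g → Function.Exact f g →
      ∀ x : T.obj (ModuleCat.of A X₂), (T.map (ModuleCat.ofHom g)).hom x = 0 →
        ∃ y : T.obj (ModuleCat.of A X₁), (T.map (ModuleCat.ofHom f)).hom y = x
  kill : ∀ a ∈ I, ∀ (X : Type u) [AddCommGroup X] [Module A X],
      T.map (ModuleCat.ofHom (a • LinearMap.id : X →ₗ[A] X)) = 0

lemma Hyp.mono {I I' : Ideal A} {T : ModuleCat.{u} A ⥤ ModuleCat.{u} A} (h : Hyp I T)
    (hle : I' ≤ I) : Hyp I' T :=
  ⟨h.zero, h.half, fun a ha X => h.kill a (hle ha) X⟩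

section maps

variable (T : ModuleCat.{u} A ⥤ ModuleCat.{u} A)
variable {X Y Z : Type u} [AddCommGroup X] [Module A X] [AddCommGroup Y] [Module A Y]
  [AddCommGroup Z] [Module A Z]

/-- `T` applied to a linear map. -/
noncomputable abbrev Tm (f : X →ₗ[A] Y) : T.obj (ModuleCat.of A X) ⟶ T.obj (ModuleCat.of A Y) :=
  T.map (ModuleCat.ofHom f)

lemma Tm_comp (f : X →ₗ[A] Y) (g : Y →ₗ[A] Z) : Tm T (g ∘ₗ f) = Tm T f ≫ Tm T g := by
  simp only [Tm, ModuleCat.ofHom_comp, Functor.map_comp]

lemma Tm_eq_zero_of_comp_left (f : X →ₗ[A] Y) (g : Y →ₗ[A] Z) (h : Tm T f = 0) :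
    Tm T (g ∘ₗ f) = 0 := by
  rw [Tm_comp, h, Limits.zero_comp]

lemma Tm_eq_zero_of_comp_right (f : X →ₗ[A] Y) (g : Y →ₗ[A] Z) (h : Tm T g = 0) :
    Tm T (g ∘ₗ f) = 0 := by
  rw [Tm_comp, h, Limits.comp_zero]

lemma Tm_zero {I : Ideal A} (hT : Hyp I T) : Tm T (0 : X →ₗ[A] Y) = 0 := by
  have := hT.zero (ModuleCat.of A X) (ModuleCat.of A Y)
  simpa [Tm] using this

lemma Tm_of_subsingleton {I : Ideal A} (hT : Hyp I T) [Subsingleton X] (f : X →ₗ[A] Y) :
    Tm T f = 0 := by
  have : f = 0 := LinearMap.ext fun x => by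
    rw [Subsingleton.elim x 0, map_zero, map_zero]
  rw [this]; exact Tm_zero T hT

end maps

section Q

variable (I : Ideal A) (M : Type u) [AddCommGroup M] [Module A M]

/-- The submodule `I ^ j M` of `M`. -/
abbrev pw (j : ℕ) : Submodule A M := I ^ j • ⊤

lemma pw_anti {j k : ℕ} (h : k ≤ j) : pw I M j ≤ pw I M k :=
  Submodule.smul_mono_left (Ideal.pow_le_pow_right h)

/-- The key property: `T (I ^ j M → I ^ k M) = 0` for all `n + k ≤ j` and all admissible `T`. -/
def Q (n : ℕ) : Prop :=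
  ∀ (T : ModuleCat.{u} A ⥤ ModuleCat.{u} A), Hyp I T → ∀ (j k : ℕ) (h : n + k ≤ j),
    Tm T (Submodule.inclusion (pw_anti I M (le_trans (Nat.le_add_left k n) h))) = 0

variable {I M}

lemma Q.mono {n n' : ℕ} (h : Q I M n) (hn : n ≤ n') : Q I M n' := fun T hT j k hjk =>
  h T hT j k (le_trans (Nat.add_le_add_right hn k) hjk)

lemma Q.subtype {n : ℕ} (h : Q I M n) (T : ModuleCat.{u} A ⥤ ModuleCat.{u} A) (hT : Hyp I T) :
    Tm T (pw I M n).subtype = 0 := by
  have h0 := h T hT n 0 (le_refl _)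
  have : (pw I M n).subtype = (pw I M 0).subtype ∘ₗ
      Submodule.inclusion (pw_anti I M (Nat.zero_le n)) := by
    ext x; rfl
  rw [this]
  exact Tm_eq_zero_of_comp_left T _ _ h0

end Q


section ClaimA

variable {I : Ideal A} {M : Type u} [AddCommGroup M] [Module A M]

lemma map_subtype_pw (S : Submodule A M) (m : ℕ) :
    Submodule.map S.subtype (pw I S m) = I ^ m • S := by
  rw [pw, Submodule.map_smul'', Submodule.map_subtype_top]

/-- Elements of `I ^ m • (⊤ : Submodule A S)` from membership in `I ^ m • S`. -/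
lemma mem_pw_sub (S : Submodule A M) (m : ℕ) (y : S) (hy : (y : M) ∈ I ^ m • S) :
    y ∈ pw I S m := by
  rw [← map_subtype_pw] at hy
  obtain ⟨z, hz, hzy⟩ := hy
  have : z = y := Subtype.ext hzy
  rwa [← this]

lemma coe_mem_pw_of_mem (S : Submodule A M) (m : ℕ) (y : S) (hy : y ∈ pw I S m) :
    (y : M) ∈ pw I M m := by
  have h1 : (y : M) ∈ I ^ m • S := by
    rw [← map_subtype_pw]; exact Submodule.mem_map_of_mem hy
  exact Submodule.smul_mono le_rfl le_top h1

lemma map_mkQ_pw (S : Submodule A M) (m : ℕ) :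
    Submodule.map S.mkQ (pw I M m) = pw I (M ⧸ S) m := by
  rw [pw, Submodule.map_smul'', Submodule.map_top, Submodule.range_mkQ]

/-- The map `I ^ m M → I ^ m (M ⧸ S)`. -/
noncomputable def pwQ (S : Submodule A M) (m : ℕ) : pw I M m →ₗ[A] pw I (M ⧸ S) m :=
  S.mkQ.restrict (fun x hx => by
    rw [← map_mkQ_pw]; exact Submodule.mem_map_of_mem hx)

lemma pwQ_surjective (S : Submodule A M) (m : ℕ) : Function.Surjective (pwQ (I := I) S m) := by
  intro y
  have hy : (y : M ⧸ S) ∈ Submodule.map S.mkQ (pw I M m) := by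
    rw [map_mkQ_pw]; exact y.2
  obtain ⟨x, hx, hxy⟩ := hy
  exact ⟨⟨x, hx⟩, Subtype.ext hxy⟩

lemma mem_of_pwQ_eq_zero (S : Submodule A M) (m : ℕ) (x : pw I M m)
    (hx : pwQ (I := I) S m x = 0) : (x : M) ∈ S := by
  have : S.mkQ (x : M) = 0 := congrArg Subtype.val hx
  simpa using this

/-- Extension step. -/
theorem Q_of_extension (S : Submodule A M) {n' n'' c : ℕ}
    (hS : Q I S n') (hQ : Q I (M ⧸ S) n'')
    (hc : ∀ j, pw I M (j + c) ⊓ S ≤ I ^ j • S) :
    Q I M (n'' + (c + n')) := by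
  intro T hT j k hjk
  set m := c + n' + k with hm
  have hmj : m ≤ j := by omega
  have hkm : k ≤ m := by omega
  -- the kernel
  set π := pwQ (I := I) S m with hπ
  set K := LinearMap.ker π with hK
  have hexact : Function.Exact K.subtype π := LinearMap.exact_subtype_ker_map π
  -- factor the inclusion
  have hfac : Submodule.inclusion (pw_anti I M (le_trans (Nat.le_add_left k _) hjk)) =
      Submodule.inclusion (pw_anti I M hkm) ∘ₗ Submodule.inclusion (pw_anti I M hmj) := by
    ext x; rfl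
  rw [hfac]
  apply ModuleCat.hom_ext
  apply LinearMap.ext
  intro x
  rw [Tm_comp]
  -- step 1
  have h1 : Tm T (π ∘ₗ Submodule.inclusion (pw_anti I M hmj)) = 0 := by
    have : π ∘ₗ Submodule.inclusion (pw_anti I M hmj) =
        Submodule.inclusion (pw_anti I (M ⧸ S) hmj) ∘ₗ pwQ (I := I) S j := by
      ext x; rfl
    rw [this]
    apply Tm_eq_zero_of_comp_right
    have := hQ T hT j m (by omega)
    exact this
  have h1' : (Tm T π).hom ((Tm T (Submodule.inclusion (pw_anti I M hmj))).hom x) = 0 := by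
    have := congrArg (fun f => f.hom x) h1
    simpa [Tm_comp] using this
  obtain ⟨y, hy⟩ := hT.half K.subtype π (Submodule.subtype_injective K)
    (pwQ_surjective S m) hexact _ h1'
  -- step 3
  have hKS : ∀ z : K, ((z : pw I M m) : M) ∈ S := fun z =>
    mem_of_pwQ_eq_zero S m z.1 z.2
  have hKpw : ∀ z : K, (⟨((z : pw I M m) : M), hKS z⟩ : S) ∈ pw I S (n' + k) := by
    intro z
    apply mem_pw_sub
    apply hc (n' + k)
    refine ⟨?_, hKS z⟩
    have : n' + k + c = m := by omega
    rw [this]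
    exact z.1.2
  let φ : K →ₗ[A] pw I S (n' + k) :=
    LinearMap.codRestrict (pw I S (n' + k))
      (LinearMap.codRestrict S ((pw I M m).subtype ∘ₗ K.subtype) hKS) hKpw
  let ψ : pw I S k →ₗ[A] pw I M k :=
    S.subtype.restrict (fun y hy => coe_mem_pw_of_mem S k ⟨y, _⟩ hy)
  have h3 : Submodule.inclusion (pw_anti I M hkm) ∘ₗ K.subtype =
      ψ ∘ₗ (Submodule.inclusion (pw_anti I S (Nat.le_add_left k n')) ∘ₗ φ) := by
    ext z; rfl
  have h3' : Tm T (Submodule.inclusion (pw_anti I M hkm) ∘ₗ K.subtype) = 0 := by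
    rw [h3]
    apply Tm_eq_zero_of_comp_left
    apply Tm_eq_zero_of_comp_right
    exact hS T hT (n' + k) k le_rfl
  have := congrArg (fun f => f.hom y) h3'
  simp only [Tm_comp, ModuleCat.hom_comp, LinearMap.comp_apply, ModuleCat.hom_zero,
    LinearMap.zero_apply] at this ⊢
  rw [← hy]
  exact this

end ClaimA


section ClaimBC

variable {I : Ideal A} {M : Type u} [AddCommGroup M] [Module A M]

lemma Tm_inclusion_congr (T : ModuleCat.{u} A ⥤ ModuleCat.{u} A) {X X' Y Y' : Submodule A M}
    (hX : X = X') (hY : Y = Y') (h : X ≤ Y) (h' : X' ≤ Y')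
    (h0 : Tm T (Submodule.inclusion h') = 0) : Tm T (Submodule.inclusion h) = 0 := by
  subst hX hY; exact h0

lemma span_singleton_smul_eq_bot (a : A) (N : Submodule A M) (ha : ∀ m : M, a • m = 0) :
    Ideal.span {a} • N = ⊥ := by
  rw [eq_bot_iff]
  apply Submodule.smul_le.2
  intro r hr n _
  obtain ⟨b, rfl⟩ := Ideal.mem_span_singleton'.1 hr
  rw [mul_smul, ha, smul_zero]
  exact Submodule.zero_mem _

lemma pw_eq_of_smul_eq_zero {I' : Ideal A} (a : A) (hI : I = Ideal.span {a} ⊔ I')
    (ha : ∀ m : M, a • m = 0) (j : ℕ) : pw I M j = pw I' M j := by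
  induction j with
  | zero => simp [pw]
  | succ j ih =>
    have e1 : pw I M (j + 1) = I • pw I M j := by
      rw [pw, pw, pow_succ', Submodule.mul_smul]
    have e2 : pw I' M (j + 1) = I' • pw I' M j := by
      rw [pw, pw, pow_succ', Submodule.mul_smul]
    rw [e1, e2, ih, hI, Submodule.sup_smul, span_singleton_smul_eq_bot a _ ha, bot_sup_eq]

/-- Claim B: if `a` kills `M` we may drop `a` from the ideal. -/
lemma Q_of_smul_eq_zero {I' : Ideal A} (a : A) (hI : I = Ideal.span {a} ⊔ I')
    (ha : ∀ m : M, a • m = 0) {n : ℕ} (hQ : Q I' M n) : Q I M n := by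
  intro T hT j k hjk
  have hle : I' ≤ I := hI ▸ le_sup_right
  exact Tm_inclusion_congr T (pw_eq_of_smul_eq_zero a hI ha j) (pw_eq_of_smul_eq_zero a hI ha k)
    _ _ (hQ T (hT.mono hle) j k hjk)

/-- Claim C: the regular case. -/
theorem Q_of_regular (a : A) (ha : a ∈ I) (hreg : ∀ m : M, a • m = 0 → m = 0) {n₀ c : ℕ}
    (hQ : Q I (M ⧸ LinearMap.range (a • LinearMap.id : M →ₗ[A] M)) n₀)
    (hc : ∀ (j : ℕ) (m : M), a • m ∈ pw I M (j + c) → m ∈ pw I M j) :
    Q I M (n₀ + c) := by
  intro T hT j k hjk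
  set S := LinearMap.range (a • LinearMap.id : M →ₗ[A] M) with hS
  set m' := k + c with hm'
  have hmj : m' ≤ j := by omega
  have hkm : k ≤ m' := by omega
  set π := pwQ (I := I) S m' with hπ
  let L : Submodule A M := Submodule.comap (a • LinearMap.id : M →ₗ[A] M) (pw I M m')
  let α : L →ₗ[A] pw I M m' :=
    (a • LinearMap.id : M →ₗ[A] M).restrict (p := L) (q := pw I M m') (fun x hx => hx)
  have hα_inj : Function.Injective α := by
    intro x y hxy
    have h1 : a • (x : M) = a • (y : M) := congrArg Subtype.val hxy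
    have h2 : a • ((x : M) - (y : M)) = 0 := by rw [smul_sub, h1, sub_self]
    exact Subtype.ext (sub_eq_zero.1 (hreg _ h2))
  have hexact : Function.Exact α π := by
    intro y
    constructor
    · intro hy
      have hyS : (y : M) ∈ S := mem_of_pwQ_eq_zero S m' y hy
      obtain ⟨m, hm⟩ := hyS
      have hm2 : a • m = (y : M) := hm
      have hmL : m ∈ L := by
        show a • m ∈ pw I M m'
        rw [hm2]; exact y.2
      exact ⟨⟨m, hmL⟩, Subtype.ext hm2⟩
    · rintro ⟨l, rfl⟩
      apply Subtype.ext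
      show S.mkQ (a • (l : M)) = 0
      rw [Submodule.mkQ_apply, Submodule.Quotient.mk_eq_zero]
      exact ⟨(l : M), rfl⟩
  have hfac : Submodule.inclusion (pw_anti I M (le_trans (Nat.le_add_left k _) hjk)) =
      Submodule.inclusion (pw_anti I M hkm) ∘ₗ Submodule.inclusion (pw_anti I M hmj) := by
    ext x; rfl
  rw [hfac]
  apply ModuleCat.hom_ext
  apply LinearMap.ext
  intro x
  rw [Tm_comp]
  have h1 : Tm T (π ∘ₗ Submodule.inclusion (pw_anti I M hmj)) = 0 := by
    have : π ∘ₗ Submodule.inclusion (pw_anti I M hmj) =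
        Submodule.inclusion (pw_anti I (M ⧸ S) hmj) ∘ₗ pwQ (I := I) S j := by
      ext x; rfl
    rw [this]
    apply Tm_eq_zero_of_comp_right
    exact hQ T hT j m' (by omega)
  have h1' : (Tm T π).hom ((Tm T (Submodule.inclusion (pw_anti I M hmj))).hom x) = 0 := by
    have := congrArg (fun f => f.hom x) h1
    simpa [Tm_comp] using this
  obtain ⟨y, hy⟩ := hT.half α π hα_inj (pwQ_surjective S m') hexact _ h1'
  let ι : L →ₗ[A] pw I M k :=
    LinearMap.codRestrict (pw I M k) L.subtype (fun l => hc k l.1 l.2)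
  have h3 : Submodule.inclusion (pw_anti I M hkm) ∘ₗ α =
      (a • LinearMap.id : pw I M k →ₗ[A] pw I M k) ∘ₗ ι := by
    ext z; rfl
  have h3' : Tm T (Submodule.inclusion (pw_anti I M hkm) ∘ₗ α) = 0 := by
    rw [h3]
    apply Tm_eq_zero_of_comp_right
    exact hT.kill a ha _
  have := congrArg (fun f => f.hom y) h3'
  simp only [Tm_comp, ModuleCat.hom_comp, LinearMap.comp_apply, ModuleCat.hom_zero,
    LinearMap.zero_apply] at this ⊢
  rw [← hy]
  exact this

end ClaimBC

section AR

variable [IsNoetherianRing A] (I : Ideal A) {M : Type u} [AddCommGroup M] [Module A M]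
  [Module.Finite A M]

lemma exists_AR (S : Submodule A M) : ∃ c : ℕ, ∀ j, pw I M (j + c) ⊓ S ≤ I ^ j • S := by
  obtain ⟨k, hk⟩ := Ideal.exists_pow_inf_eq_pow_smul I S
  refine ⟨k, fun j => ?_⟩
  have := hk (j + k) (Nat.le_add_left k j)
  rw [Nat.add_sub_cancel] at this
  rw [pw, this]
  exact Submodule.smul_mono le_rfl inf_le_right

lemma exists_AR_regular (a : A) (hreg : ∀ m : M, a • m = 0 → m = 0) :
    ∃ c : ℕ, ∀ (j : ℕ) (m : M), a • m ∈ pw I M (j + c) → m ∈ pw I M j := by
  obtain ⟨c, hc⟩ := exists_AR I (LinearMap.range (a • LinearMap.id : M →ₗ[A] M))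
  refine ⟨c, fun j m hm => ?_⟩
  have h1 : a • m ∈ I ^ j • LinearMap.range (a • LinearMap.id : M →ₗ[A] M) :=
    hc j ⟨hm, ⟨m, rfl⟩⟩
  rw [LinearMap.range_eq_map, ← Submodule.map_smul''] at h1
  obtain ⟨m', hm', hmm⟩ := h1
  have h2 : a • (m' - m) = 0 := by
    have : a • m' = a • m := hmm
    rw [smul_sub, this, sub_self]
  have := hreg _ h2
  rw [sub_eq_zero] at this
  rwa [← this]

end AR


section Main

variable [IsNoetherianRing A]

omit [IsNoetherianRing A] in
/-- Base case: the zero ideal. -/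
lemma Q_bot (M : Type u) [AddCommGroup M] [Module A M] : Q (⊥ : Ideal A) M 1 := by
  intro T hT j k hjk
  have hj : j ≠ 0 := by omega
  have e : pw (⊥ : Ideal A) M j = ⊥ := by
    rw [pw, ← Ideal.zero_eq_bot, zero_pow hj, Ideal.zero_eq_bot, Submodule.bot_smul]
  have : Subsingleton (pw (⊥ : Ideal A) M j) := by
    rw [e]; infer_instance
  exact Tm_of_subsingleton T hT _

/-- The inductive step on generators. -/
theorem exists_Q_insert (a : A) (I' : Ideal A)
    (IH : ∀ (M : Type u) [AddCommGroup M] [Module A M] [Module.Finite A M], ∃ n, Q I' M n)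
    (M : Type u) [AddCommGroup M] [Module A M] [Module.Finite A M] :
    ∃ n, Q (Ideal.span {a} ⊔ I') M n := by
  set I := Ideal.span {a} ⊔ I' with hI
  have haI : a ∈ I := le_sup_left (a := Ideal.span {a}) (Ideal.subset_span rfl)
  -- (i) modules killed by `a`
  have step1 : ∀ (M : Type u) [AddCommGroup M] [Module A M] [Module.Finite A M],
      (∀ m : M, a • m = 0) → ∃ n, Q I M n := by
    intro M _ _ _ ha
    obtain ⟨n, hn⟩ := IH M
    exact ⟨n, Q_of_smul_eq_zero a hI ha hn⟩
  -- (ii) modules killed by a power of `a`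
  have step2 : ∀ (c : ℕ) (M : Type u) [AddCommGroup M] [Module A M] [Module.Finite A M],
      (∀ m : M, a ^ c • m = 0) → ∃ n, Q I M n := by
    intro c
    induction c with
    | zero =>
      intro M _ _ _ h
      exact step1 M (fun m => by have := h m; rw [pow_zero, one_smul] at this; rw [this, smul_zero])
    | succ c ih =>
      intro M _ _ _ h
      set S := LinearMap.ker (a • LinearMap.id : M →ₗ[A] M) with hS
      obtain ⟨n', hn'⟩ := step1 S (fun s => Subtype.ext (by
        have : a • (s : M) = 0 := s.2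
        simpa using this))
      obtain ⟨n'', hn''⟩ := ih (M ⧸ S) (fun x => by
        obtain ⟨m, rfl⟩ := S.mkQ_surjective x
        rw [← map_smul, Submodule.mkQ_apply, Submodule.Quotient.mk_eq_zero]
        show a • (a ^ c • m) = 0
        rw [← mul_smul, ← pow_succ', h])
      obtain ⟨c₀, hc₀⟩ := exists_AR I S
      exact ⟨_, Q_of_extension S hn' hn'' hc₀⟩
  -- (iii) `a`-regular modules
  have step3 : ∀ (M : Type u) [AddCommGroup M] [Module A M] [Module.Finite A M],
      (∀ m : M, a • m = 0 → m = 0) → ∃ n, Q I M n := by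
    intro M _ _ _ hreg
    obtain ⟨n₀, hn₀⟩ := step1 (M ⧸ LinearMap.range (a • LinearMap.id : M →ₗ[A] M)) (fun x => by
      obtain ⟨m, rfl⟩ := Submodule.mkQ_surjective _ x
      rw [← map_smul, Submodule.mkQ_apply, Submodule.Quotient.mk_eq_zero]
      exact ⟨m, rfl⟩)
    obtain ⟨c, hc⟩ := exists_AR_regular I a hreg
    exact ⟨_, Q_of_regular a haI hreg hn₀ hc⟩
  -- (iv) the general case
  let f : ℕ →o Submodule A M :=
    { toFun := fun j => LinearMap.ker (a ^ j • LinearMap.id : M →ₗ[A] M)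
      monotone' := by
        intro j j' hjj' m hm
        have hm' : a ^ j • m = 0 := hm
        show a ^ j' • m = 0
        obtain ⟨d, rfl⟩ := Nat.exists_eq_add_of_le hjj'
        rw [pow_add, mul_comm, mul_smul, hm', smul_zero] }
  obtain ⟨c, hc⟩ := monotone_stabilizes_iff_noetherian.2 (inferInstance : IsNoetherian A M) f
  set S := LinearMap.ker (a ^ c • LinearMap.id : M →ₗ[A] M) with hS
  obtain ⟨n', hn'⟩ := step2 c S (fun s => Subtype.ext (by
    have : a ^ c • (s : M) = 0 := s.2
    simpa using this))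
  obtain ⟨n'', hn''⟩ := step3 (M ⧸ S) (fun x hx => by
    obtain ⟨m, rfl⟩ := S.mkQ_surjective x
    rw [← map_smul, Submodule.mkQ_apply, Submodule.Quotient.mk_eq_zero] at hx
    rw [Submodule.mkQ_apply, Submodule.Quotient.mk_eq_zero]
    have h1 : a ^ c • (a • m) = 0 := hx
    have h2 : m ∈ f (c + 1) := by
      show a ^ (c + 1) • m = 0
      rw [pow_succ, mul_smul, h1]
    have h3 : f c = f (c + 1) := hc (c + 1) (Nat.le_succ c)
    rw [← h3] at h2
    exact h2)
  obtain ⟨c₀, hc₀⟩ := exists_AR I S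
  exact ⟨_, Q_of_extension S hn' hn'' hc₀⟩

/-- Main theorem: for a Noetherian ring, an ideal `I` and a finite module `M` there is `n > 0`
with `Q I M n`. -/
theorem exists_Q (I : Ideal A) (M : Type u) [AddCommGroup M] [Module A M] [Module.Finite A M] :
    ∃ n, 0 < n ∧ Q I M n := by
  obtain ⟨s, rfl⟩ := (isNoetherianRing_iff_ideal_fg A).1 inferInstance I
  suffices H : ∀ (M : Type u) [AddCommGroup M] [Module A M] [Module.Finite A M],
      ∃ n, Q (Ideal.span (s : Set A)) M n by
    obtain ⟨n, hn⟩ := H M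
    exact ⟨n + 1, Nat.succ_pos n, hn.mono (Nat.le_succ n)⟩
  clear! M
  classical
  induction s using Finset.induction_on with
  | empty =>
    intro M _ _ _
    refine ⟨1, ?_⟩
    rw [Finset.coe_empty, Ideal.span_empty]
    exact Q_bot M
  | insert a s _ ih =>
    intro M _ _ _
    rw [Finset.coe_insert, Ideal.span_insert]
    exact exists_Q_insert a _ ih M

end Main

end HalfExact

end Groth.Agent.Lib.Helper16
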