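import Groth.Agent.Lib.Helper16.HalfExact.Basic

/-!
# `Tor_p(-, N)` is half exact and killed by the annihilator of `N` (helper16)
-/

set_option autoImplicit false
universe u
open CategoryTheory MonoidalCategory

namespace Groth.Agent.Lib.Helper16

namespace HalfExact

variable {A : Type u} [CommRing A]

/-- `X ↦ Tor_p(X, N)`. -/
noncomputable abbrev torFlip (N : ModuleCat.{u} A) (p : ℕ) : ModuleCat.{u} A ⥤ ModuleCat.{u} A :=
  (Tor (ModuleCat.{u} A) p).flip.obj N

section

variable {N : ModuleCat.{u} A} (P : ProjectiveResolution N)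

/-- The complex `X ⊗ P•`. -/
noncomputable abbrev cx (X : ModuleCat.{u} A) : ChainComplex (ModuleCat.{u} A) ℕ :=
  (((tensoringLeft (ModuleCat.{u} A)).obj X).mapHomologicalComplex _).obj P.complex

/-- The chain map `f ⊗ P•`. -/
noncomputable abbrev cxMap {X Y : ModuleCat.{u} A} (f : X ⟶ Y) : cx P X ⟶ cx P Y :=
  (NatTrans.mapHomologicalComplex ((tensoringLeft (ModuleCat.{u} A)).map f) _).app P.complex

lemma torFlip_map_eq (p : ℕ) {X Y : ModuleCat.{u} A} (f : X ⟶ Y) :
    (torFlip N p).map f =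
      (P.isoLeftDerivedObj ((tensoringLeft (ModuleCat.{u} A)).obj X) p).hom ≫
        (HomologicalComplex.homologyFunctor _ _ p).map (cxMap P f) ≫
        (P.isoLeftDerivedObj ((tensoringLeft (ModuleCat.{u} A)).obj Y) p).inv :=
  ProjectiveResolution.leftDerived_app_eq _ P p

lemma torFlip_map_eq_zero (p : ℕ) {X Y : ModuleCat.{u} A} (f : X ⟶ Y)
    (h : (HomologicalComplex.homologyFunctor _ _ p).map (cxMap P f) = 0) :
    (torFlip N p).map f = 0 := by
  rw [torFlip_map_eq P, h, Limits.zero_comp, Limits.comp_zero]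
  rfl

lemma cxMap_f {X Y : ModuleCat.{u} A} (f : X ⟶ Y) (i : ℕ) :
    (cxMap P f).f i = f ▷ P.complex.X i := rfl

lemma cxMap_zero (X Y : ModuleCat.{u} A) : cxMap P (0 : X ⟶ Y) = 0 := by
  ext i : 1
  rw [cxMap_f, MonoidalPreadditive.zero_whiskerRight]
  rfl

lemma cxMap_comp {X Y Z : ModuleCat.{u} A} (f : X ⟶ Y) (g : Y ⟶ Z) :
    cxMap P (f ≫ g) = cxMap P f ≫ cxMap P g := by
  ext i : 1
  rw [HomologicalComplex.comp_f, cxMap_f, cxMap_f, cxMap_f, comp_whiskerRight]
  rfl

end


section

variable {N : ModuleCat.{u} A} (P : ProjectiveResolution N)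

include P in
lemma torFlip_map_zero (p : ℕ) (X Y : ModuleCat.{u} A) : (torFlip N p).map (0 : X ⟶ Y) = 0 := by
  apply torFlip_map_eq_zero P
  rw [cxMap_zero, Functor.map_zero]

lemma cxMap_smul_id (a : A) (X : ModuleCat.{u} A) :
    cxMap P (a • 𝟙 X) =
      (((tensoringLeft (ModuleCat.{u} A)).obj X).mapHomologicalComplex _).map
        (a • 𝟙 P.complex) := by
  ext i : 1
  rw [cxMap_f, MonoidalLinear.smul_whiskerRight, id_whiskerRight]
  change _ = X ◁ ((a • 𝟙 P.complex : P.complex ⟶ P.complex).f i)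
  rw [HomologicalComplex.smul_f_apply, HomologicalComplex.id_f, MonoidalLinear.whiskerLeft_smul,
    whiskerLeft_id]

include P in
lemma torFlip_map_smul_id (p : ℕ) (a : A) (ha : ∀ y : N, a • y = 0) (X : ModuleCat.{u} A) :
    (torFlip N p).map (a • 𝟙 X) = 0 := by
  apply torFlip_map_eq_zero P
  rw [cxMap_smul_id]
  have h0 : (a • 𝟙 P.complex : P.complex ⟶ P.complex).f 0 ≫ P.π.f 0 = 0 := by
    rw [HomologicalComplex.smul_f_apply, HomologicalComplex.id_f,
      Linear.smul_comp, Category.id_comp]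
    apply ModuleCat.hom_ext
    apply LinearMap.ext
    intro x
    exact ha ((P.π.f 0).hom x)
  have comm : (a • 𝟙 P.complex : P.complex ⟶ P.complex).f 0 ≫ P.π.f 0 =
      P.π.f 0 ≫ (0 : N ⟶ N) := h0.trans (Limits.comp_zero).symm
  have comm' : (0 : P.complex ⟶ P.complex).f 0 ≫ P.π.f 0 =
      P.π.f 0 ≫ (0 : N ⟶ N) := by
    rw [HomologicalComplex.zero_f, Limits.zero_comp]
    exact (Limits.comp_zero).symm
  have h1 := ProjectiveResolution.isoLeftDerivedObj_hom_naturality (0 : N ⟶ N) P P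
    (a • 𝟙 P.complex) comm ((tensoringLeft (ModuleCat.{u} A)).obj X) p
  have h2 := ProjectiveResolution.isoLeftDerivedObj_hom_naturality (0 : N ⟶ N) P P
    (0 : P.complex ⟶ P.complex) comm' ((tensoringLeft (ModuleCat.{u} A)).obj X) p
  rw [h1] at h2
  rw [Functor.map_zero, Limits.comp_zero] at h2
  rw [← cancel_epi (P.isoLeftDerivedObj ((tensoringLeft (ModuleCat.{u} A)).obj X) p).hom,
    Limits.comp_zero]
  exact h2

end


section

variable {N : ModuleCat.{u} A} (P : ProjectiveResolution N)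

lemma iso_hom_inv_apply {X Y : ModuleCat.{u} A} (e : X ≅ Y) (y : Y) :
    e.hom.hom (e.inv.hom y) = y := by
  have := congrArg (fun φ => φ.hom y) e.inv_hom_id
  simpa using this

lemma iso_inv_hom_apply {X Y : ModuleCat.{u} A} (e : X ≅ Y) (x : X) :
    e.inv.hom (e.hom.hom x) = x := by
  have := congrArg (fun φ => φ.hom x) e.hom_inv_id
  simpa using this

lemma cxMap_shortExact {X₁ X₂ X₃ : Type u} [AddCommGroup X₁] [Module A X₁]
    [AddCommGroup X₂] [Module A X₂] [AddCommGroup X₃] [Module A X₃]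
    (f : X₁ →ₗ[A] X₂) (g : X₂ →ₗ[A] X₃)
    (hf : Function.Injective f) (hg : Function.Surjective g) (hfg : Function.Exact f g)
    (w : cxMap P (ModuleCat.ofHom f) ≫ cxMap P (ModuleCat.ofHom g) = 0) :
    (ShortComplex.mk (cxMap P (ModuleCat.ofHom f)) (cxMap P (ModuleCat.ofHom g)) w).ShortExact := by
  apply HomologicalComplex.shortExact_of_degreewise_shortExact
  intro i
  have : Module.Projective A (P.complex.X i) := inferInstance
  have hmono : Function.Injective (f.rTensor (P.complex.X i)) :=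
    Module.Flat.rTensor_preserves_injective_linearMap f hf
  have hepi : Function.Surjective (g.rTensor (P.complex.X i)) :=
    LinearMap.rTensor_surjective _ hg
  have hex : Function.Exact (f.rTensor (P.complex.X i)) (g.rTensor (P.complex.X i)) :=
    rTensor_exact _ hfg hg
  refine ShortComplex.ShortExact.mk' ?_ ?_ ?_
  · rw [ShortComplex.ShortExact.moduleCat_exact_iff_function_exact]
    exact hex
  · rw [ModuleCat.mono_iff_injective]
    exact hmono
  · rw [ModuleCat.epi_iff_surjective]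
    exact hepi

include P in
lemma torFlip_half (p : ℕ) {X₁ X₂ X₃ : Type u} [AddCommGroup X₁] [Module A X₁]
    [AddCommGroup X₂] [Module A X₂] [AddCommGroup X₃] [Module A X₃]
    (f : X₁ →ₗ[A] X₂) (g : X₂ →ₗ[A] X₃)
    (hf : Function.Injective f) (hg : Function.Surjective g) (hfg : Function.Exact f g)
    (x : (torFlip N p).obj (ModuleCat.of A X₂))
    (hx : ((torFlip N p).map (ModuleCat.ofHom g)).hom x = 0) :
    ∃ y : (torFlip N p).obj (ModuleCat.of A X₁),
      ((torFlip N p).map (ModuleCat.ofHom f)).hom y = x := by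
  have hgf : g ∘ₗ f = 0 := LinearMap.ext fun z => hfg.apply_apply_eq_zero z
  have w : cxMap P (ModuleCat.ofHom f) ≫ cxMap P (ModuleCat.ofHom g) = 0 := by
    rw [← cxMap_comp, ← ModuleCat.ofHom_comp, hgf]
    exact cxMap_zero P _ _
  have hS := cxMap_shortExact P f g hf hg hfg w
  have E := hS.homology_exact₂ p
  rw [ShortComplex.moduleCat_exact_iff] at E
  have hx' := hx
  rw [torFlip_map_eq P] at hx'
  have hx'' : (P.isoLeftDerivedObj ((tensoringLeft (ModuleCat.{u} A)).obj (ModuleCat.of A X₃)) p).inv.hom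
      (((HomologicalComplex.homologyFunctor _ _ p).map (cxMap P (ModuleCat.ofHom g))).hom
        ((P.isoLeftDerivedObj ((tensoringLeft (ModuleCat.{u} A)).obj (ModuleCat.of A X₂)) p).hom.hom x))
      = 0 := hx'
  have h1 : ((HomologicalComplex.homologyFunctor _ _ p).map (cxMap P (ModuleCat.ofHom g))).hom
        ((P.isoLeftDerivedObj ((tensoringLeft (ModuleCat.{u} A)).obj (ModuleCat.of A X₂)) p).hom.hom x)
      = 0 := by
    have := congrArg
      (P.isoLeftDerivedObj ((tensoringLeft (ModuleCat.{u} A)).obj (ModuleCat.of A X₃)) p).hom.hom hx''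
    rw [map_zero] at this
    exact (iso_hom_inv_apply _ _).symm.trans this
  obtain ⟨y', hy'⟩ := E _ h1
  refine ⟨(P.isoLeftDerivedObj ((tensoringLeft (ModuleCat.{u} A)).obj (ModuleCat.of A X₁)) p).inv.hom
    y', ?_⟩
  rw [torFlip_map_eq P]
  show (P.isoLeftDerivedObj ((tensoringLeft (ModuleCat.{u} A)).obj (ModuleCat.of A X₂)) p).inv.hom
      (((HomologicalComplex.homologyFunctor _ _ p).map (cxMap P (ModuleCat.ofHom f))).hom
        ((P.isoLeftDerivedObj ((tensoringLeft (ModuleCat.{u} A)).obj (ModuleCat.of A X₁)) p).hom.hom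
          ((P.isoLeftDerivedObj ((tensoringLeft (ModuleCat.{u} A)).obj (ModuleCat.of A X₁)) p).inv.hom
            y'))) = x
  have k1 := iso_hom_inv_apply
    (P.isoLeftDerivedObj ((tensoringLeft (ModuleCat.{u} A)).obj (ModuleCat.of A X₁)) p) y'
  have k2 : ((HomologicalComplex.homologyFunctor _ _ p).map (cxMap P (ModuleCat.ofHom f))).hom y' =
      (P.isoLeftDerivedObj ((tensoringLeft (ModuleCat.{u} A)).obj (ModuleCat.of A X₂)) p).hom.hom x :=
    hy'
  have k3 := iso_inv_hom_apply
    (P.isoLeftDerivedObj ((tensoringLeft (ModuleCat.{u} A)).obj (ModuleCat.of A X₂)) p) x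
  exact (congrArg (fun z =>
    (P.isoLeftDerivedObj ((tensoringLeft (ModuleCat.{u} A)).obj (ModuleCat.of A X₂)) p).inv.hom
      (((HomologicalComplex.homologyFunctor _ _ p).map (cxMap P (ModuleCat.ofHom f))).hom z)) k1).trans
    ((congrArg
      (P.isoLeftDerivedObj ((tensoringLeft (ModuleCat.{u} A)).obj (ModuleCat.of A X₂)) p).inv.hom
      k2).trans k3)

/-- `Tor_p(-, N)` satisfies the hypotheses of the dévissage theorem for every ideal killing
`N`. -/
theorem hyp_torFlip (I : Ideal A) (N : ModuleCat.{u} A) (hN : ∀ a ∈ I, ∀ y : N, a • y = 0)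
    (p : ℕ) : Hyp I (torFlip N p) where
  zero X Y := torFlip_map_zero (ProjectiveResolution.of N) p X Y
  half f g hf hg hfg x hx := torFlip_half (ProjectiveResolution.of N) p f g hf hg hfg x hx
  kill a ha X _ _ := by
    have : ModuleCat.ofHom (a • LinearMap.id : X →ₗ[A] X) = a • 𝟙 (ModuleCat.of A X) := rfl
    rw [this]
    exact torFlip_map_smul_id (ProjectiveResolution.of N) p a (hN a ha) _

end


/-- Uniform vanishing: for `A` Noetherian, `M` finite and `N` killed by `I`, there is `n > 0` with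
`Tor_p(IⁿM, N) → Tor_p(M, N)` zero for all `p`. -/
theorem tor_map_pow_eq_zero [IsNoetherianRing A] (I : Ideal A) (M N : Type u)
    [AddCommGroup M] [Module A M] [Module.Finite A M] [AddCommGroup N] [Module A N]
    (hN : ∀ a ∈ I, ∀ y : N, a • y = 0) :
    ∃ n : ℕ, 0 < n ∧ ∀ p : ℕ,
      ((CategoryTheory.Tor (ModuleCat.{u} A) p).map
        (ModuleCat.ofHom (I ^ n • ⊤ : Submodule A M).subtype)).app (ModuleCat.of A N) = 0 := by
  obtain ⟨n, hn, hQ⟩ := exists_Q I M
  exact ⟨n, hn, fun p => hQ.subtype _ (hyp_torFlip I (ModuleCat.of A N) hN p)⟩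

end HalfExact

end Groth.Agent.Lib.Helper16
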